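import Mathlib.LinearAlgebra.Finsupp.LinearCombination
import Mathlib.LinearAlgebra.Basis.VectorSpace
import Mathlib.FieldTheory.PurelyInseparable.PerfectClosure
import Mathlib.FieldTheory.IsAlgClosed.AlgebraicClosure
import Mathlib.FieldTheory.Normal.Basic

/-! # Descent of stable subspaces along a group of field automorphisms -/

set_option autoImplicit false

namespace Groth.Agent.NonsingPI28

/-- A subspace stable under field automorphisms is spanned by vectors with fixed coordinates. -/
theorem le_span_fixed {L ι S : Type*} [Field L] (σ : S → L →+* L) (M : Submodule L (ι →₀ L))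
    (hM : ∀ s, ∀ v ∈ M, v.mapRange (σ s) (map_zero _) ∈ M) :
    M ≤ Submodule.span L {v | v ∈ M ∧ ∀ s i, σ s (v i) = v i} := by
  classical
  let q := M.mkQ
  let e : ι → (ι →₀ L) := fun i => Finsupp.single i 1
  obtain ⟨b, hb, hspan, hli⟩ := exists_linearIndependent L (Set.range fun i => q (e i))
  choose g hg using fun y : b => hb y.2
  let T : (b →₀ L) →ₗ[L] (ι →₀ L) := Finsupp.linearCombination L fun y => e (g y)
  have hqT : ∀ c, q (T c) = Finsupp.linearCombination L ((↑) : b → _) c := fun c => by
    simp only [T, Finsupp.apply_linearCombination]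
    exact congrArg (fun f => Finsupp.linearCombination L f c) (funext fun y => hg y)
  have hinj : Function.Injective fun c => q (T c) := fun c c' h => by
    simp only [hqT] at h
    exact hli h
  have hex : ∀ i, ∃ c, q (T c) = q (e i) := fun i => by
    obtain ⟨c, hc⟩ := (Finsupp.mem_span_iff_linearCombination L b _).1
      (hspan ▸ Submodule.subset_span ⟨i, rfl⟩ : q (e i) ∈ Submodule.span L b)
    exact ⟨c, (hqT c).trans hc⟩
  choose c hc using hex
  let m : ι → (ι →₀ L) := fun i => e i - T (c i)
  have hmM : ∀ i, m i ∈ M := fun i =>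
    (Submodule.Quotient.eq M).1 (hc i).symm
  have hfix : ∀ i s j, σ s (m i j) = m i j := by
    intro i s j
    have hTs : ∀ v : b →₀ L, (T v).mapRange (σ s) (map_zero _) = T (v.mapRange (σ s) (map_zero _)) := by
      intro v
      induction v using Finsupp.induction_linear with
      | zero => simp
      | add u w hu hw =>
        rw [map_add, Finsupp.mapRange_add (map_add (σ s)), hu, hw, Finsupp.mapRange_add (map_add (σ s)), map_add]
      | single y a => simp [T, e]
    have he : (e i).mapRange (σ s) (map_zero _) = e i := by simp [e]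
    have h1 : e i - T ((c i).mapRange (σ s) (map_zero _)) ∈ M := by
      have := hM s _ (hmM i)
      rwa [show (m i).mapRange (σ s) (map_zero _) = e i - T ((c i).mapRange (σ s) (map_zero _)) by
        rw [← hTs, Finsupp.mapRange_sub (map_sub (σ s)), he]] at this
    have h2 : (c i).mapRange (σ s) (map_zero _) = c i :=
      hinj ((((Submodule.Quotient.eq M).2 h1).symm).trans (hc i).symm)
    have h3 : (m i).mapRange (σ s) (map_zero _) = m i := by
      rw [Finsupp.mapRange_sub (map_sub (σ s)), he, hTs, h2]
    exact DFunLike.congr_fun h3 j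
  intro v hv
  have hve : v = ∑ i ∈ v.support, v i • m i + T (∑ i ∈ v.support, v i • c i) := by
    rw [map_sum, ← Finset.sum_add_distrib]
    conv_lhs => rw [← v.sum_single]
    refine Finset.sum_congr rfl fun i _ => ?_
    rw [map_smul, ← smul_add, sub_add_cancel]
    simp [e]
  have hs : ∑ i ∈ v.support, v i • m i ∈ Submodule.span L {v | v ∈ M ∧ ∀ s i, σ s (v i) = v i} :=
    Submodule.sum_mem _ fun i _ => Submodule.smul_mem _ _ (Submodule.subset_span ⟨hmM i, fun s j => hfix i s j⟩)
  have h0 : ∑ i ∈ v.support, v i • c i = 0 := by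
    refine hinj ?_
    show q (T _) = q (T 0)
    rw [map_zero, map_zero, show T (∑ i ∈ v.support, v i • c i) = v - ∑ i ∈ v.support, v i • m i from
      eq_sub_of_add_eq' hve.symm, Submodule.mkQ_apply, Submodule.Quotient.mk_eq_zero]
    exact M.sub_mem hv (M.sum_mem fun i _ => M.smul_mem _ (hmM i))
  rw [h0, map_zero, add_zero] at hve
  exact hve ▸ hs

/-- An element of the algebraic closure fixed by all automorphisms is purely inseparable. -/
theorem mem_perfectClosure_of_fixed {k kb : Type*} [Field k] [Field kb] [Algebra k kb] [IsAlgClosed kb]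
    [Normal k kb] {x : kb} (h : ∀ σ : kb ≃ₐ[k] kb, σ x = x) : x ∈ perfectClosure k kb := by
  classical
  rw [mem_perfectClosure_iff_natSepDegree_eq_one, Polynomial.natSepDegree_eq_of_isAlgClosed (E := kb),
    Finset.card_eq_one]
  have hx : IsIntegral k x := Normal.isIntegral inferInstance x
  refine ⟨x, Finset.ext fun y => ?_⟩
  rw [Multiset.mem_toFinset, Polynomial.mem_aroots, Finset.mem_singleton]
  refine ⟨fun hy => ?_, fun hy => ⟨minpoly.ne_zero hx, hy ▸ minpoly.aeval k x⟩⟩
  obtain ⟨σ, hσ⟩ := minpoly.exists_algEquiv_of_root' hx.isAlgebraic hy.2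
  exact hσ.symm.trans (h σ)

end Groth.Agent.NonsingPI28
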