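import Groth.Agent.Lib.NonsingPI28.Conductor
import Groth.Agent.Lib.NonsingPI28.Descent
import Groth.Agent.Lib.FunField.SplitField26

/-! # The integral closure of a valuation ring in `k̄ ⊗ K` is defined over a finite purely inseparable field -/

set_option autoImplicit false
set_option linter.style.haveILetI false

namespace Groth.Agent.NonsingPI28

open WithZero FunFld TensorProduct Polynomial IntermediateField FunField
open scoped Multiplicative

universe u v

variable {k : Type u} {K : Type v} {kb : Type u} [Field k] [Field K] [Field kb] [Algebra k K] [Algebra k kb]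

/-- The image of `O_P` in `k̄ ⊗ K`. -/
noncomputable abbrev Rb (kb : Type u) [Field kb] [Algebra k kb] (P : Place k K) : Subring (kb ⊗[k] K) :=
  P.O.toSubring.map (Algebra.TensorProduct.includeRight : K →ₐ[k] kb ⊗[k] K).toRingHom

theorem isIntegral_tmul_one [Algebra.IsAlgebraic k kb] (P : Place k K) (c : kb) :
    IsIntegral (Rb kb P) (c ⊗ₜ[k] (1 : K)) := by
  obtain ⟨p, hpm, hp0⟩ := (Algebra.IsAlgebraic.isAlgebraic (R := k) c).isIntegral
  let f : k →+* Rb kb P :=
    (((Algebra.TensorProduct.includeRight : K →ₐ[k] kb ⊗[k] K).toRingHom).comp (algebraMap k K)).codRestrict _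
      fun r => Subring.mem_map.2 ⟨algebraMap k K r, P.2.1 r, rfl⟩
  refine ⟨p.map f, hpm.map f, ?_⟩
  rw [eval₂_map]
  have hcomp : (algebraMap _ (kb ⊗[k] K)).comp f =
      (Algebra.TensorProduct.includeLeftRingHom : kb →+* kb ⊗[k] K).comp (algebraMap k kb) := by
    refine RingHom.ext fun r => ?_
    show ((1 : kb) ⊗ₜ[k] algebraMap k K r : kb ⊗[k] K) = algebraMap k kb r ⊗ₜ[k] (1 : K)
    rw [Algebra.algebraMap_eq_smul_one, Algebra.algebraMap_eq_smul_one, TensorProduct.smul_tmul]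
  rw [hcomp, show (c ⊗ₜ[k] (1 : K) : kb ⊗[k] K) = Algebra.TensorProduct.includeLeftRingHom c from rfl,
    ← hom_eval₂]
  erw [hp0]
  exact map_zero _

theorem isIntegral_smul [Algebra.IsAlgebraic k kb] (P : Place k K) (c : kb) {z : kb ⊗[k] K}
    (hz : IsIntegral (Rb kb P) z) : IsIntegral (Rb kb P) (c • z) := by
  rw [show c • z = (c ⊗ₜ[k] (1 : K)) * z by
    rw [← algebraMap_smul (kb ⊗[k] K) c z, smul_eq_mul]; rfl]
  exact (isIntegral_tmul_one P c).mul hz

theorem isIntegral_of_mem (P : Place k K) {o : K} (ho : P.1 o ≤ 1) : IsIntegral (Rb kb P) ((1 : kb) ⊗ₜ[k] o) :=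
  isIntegral_algebraMap (x := (⟨(1 : kb) ⊗ₜ[k] o, o, ho, rfl⟩ : Rb kb P))

theorem exists_residue_span (h : FF k K) (P : Place k K) {t : K} (ht : P.1 t = exp (-1)) (n : ℕ) :
    ∃ S : Finset K, ∀ o : K, P.1 o ≤ 1 → ∃ s ∈ Submodule.span k (S : Set K), P.1 (o - s) ≤ exp (-(n : ℤ)) := by
  classical
  induction n with
  | zero => exact ⟨∅, fun o ho => ⟨0, zero_mem _, by simpa using ho⟩⟩
  | succ n ih =>
    obtain ⟨S, hS⟩ := ih
    haveI := FF.finite_residueField h P
    obtain ⟨B, hB⟩ := Module.Finite.fg_top (R := k) (M := IsLocalRing.ResidueField P.O)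
    choose ρ hρ using fun b : IsLocalRing.ResidueField P.O => IsLocalRing.residue_surjective (R := P.O) b
    refine ⟨S ∪ B.image fun b => t ^ n * (ρ b : K), fun o ho => ?_⟩
    obtain ⟨s, hs, hos⟩ := hS o ho
    set u := (o - s) / t ^ n
    have htn : P.1 (t ^ n) = exp (-(n : ℤ)) := by rw [map_pow, ht, ← exp_nsmul]; simp
    have hu : P.1 u ≤ 1 := by
      rw [map_div₀, htn, div_le_iff₀ exp_pos, one_mul]; exact hos
    have hmem : IsLocalRing.residue P.O ⟨u, hu⟩ ∈ Submodule.span k (B : Set (IsLocalRing.ResidueField P.O)) := by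
      rw [hB]; trivial
    obtain ⟨f, hf⟩ := Submodule.mem_span_finset.1 hmem
    refine ⟨s + t ^ n * ∑ b ∈ B, f b • (ρ b : K), add_mem (Submodule.span_mono (by simp) hs) ?_, ?_⟩
    · rw [Finset.mul_sum]
      refine Submodule.sum_mem _ fun b hb => ?_
      rw [mul_smul_comm]
      exact Submodule.smul_mem _ _ (Submodule.subset_span (by simp only [Finset.coe_union, Finset.coe_image]; exact Or.inr ⟨b, hb, rfl⟩))
    · have hres : P.1 (u - ∑ b ∈ B, f b • (ρ b : K)) < 1 := by
        let Sg : P.O := ⟨u, hu⟩ - ∑ b ∈ B, algebraMap k P.O (f b) * ρ b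
        have h1 : IsLocalRing.residue P.O Sg = 0 := by
          simp only [Sg, map_sub, map_sum, map_mul, hρ]
          rw [← hf.2, sub_eq_zero]
          refine Finset.sum_congr rfl fun b _ => ?_
          exact Algebra.smul_def _ _
        have h2 := (residue_eq_zero_iff P Sg).1 h1
        simp only [Sg, AddSubgroupClass.coe_sub, AddSubmonoidClass.coe_finsetSum, MulMemClass.coe_mul,
          coe_algebraMap_O] at h2
        simpa only [Algebra.smul_def] using h2
      have e : o - (s + t ^ n * ∑ b ∈ B, f b • (ρ b : K)) = t ^ n * (u - ∑ b ∈ B, f b • (ρ b : K)) := by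
        have ht0 : t ^ n ≠ 0 := fun e => by rw [e, map_zero] at htn; exact exp_ne_zero htn.symm
        simp only [u]; field_simp; ring
      rw [e, map_mul, htn]
      refine (mul_le_mul' le_rfl ((lt_one_iff_le _).1 hres)).trans_eq ?_
      rw [← exp_add]; congr 1; push_cast; ring

variable [IsAlgClosed kb] [Normal k kb]

theorem mul_mem_span (hK : IsFunctionField k K) (hg : IsGeometric k K) {x γ : K} (hx : Transcendental k x)
    [Algebra.IsSeparable k⟮x⟯ K] (hγ : IsIntegral (Algebra.adjoin k ({x} : Set K)) γ) (hgen : k⟮x⟯⟮γ⟯ = ⊤)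
    (P : Place k K) (hPx : P.1 x ≤ 1) {z : kb ⊗[k] K} (hz : IsIntegral (Rb kb P) z) :
    ((1 : kb) ⊗ₜ[k] aeval γ (derivative (minpoly k⟮x⟯ γ))) * z ∈
      Submodule.span kb (Set.range fun o : P.O => (1 : kb) ⊗ₜ[k] (o : K)) := by
  classical
  haveI : Algebra.IsAlgebraic k kb := Normal.toIsAlgebraic
  set d := aeval γ (derivative (minpoly k⟮x⟯ γ))
  set A := Submodule.span kb (Set.range fun o : P.O => (1 : kb) ⊗ₜ[k] (o : K))
  have hfield : IsField (kb ⊗[k] K) :=
    Groth.Agent.FunField.Split.isField_tensor_algebraic fun E hE => hg E hE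
  letI : Field (kb ⊗[k] K) := hfield.toField
  letI : Algebra K (kb ⊗[k] K) := Algebra.TensorProduct.rightAlgebra
  haveI : IsScalarTower k K (kb ⊗[k] K) := IsScalarTower.of_algebraMap_eq fun c =>
    ((Algebra.TensorProduct.includeRight : K →ₐ[k] kb ⊗[k] K).commutes c).symm
  have e : ∀ z, Algebra.TensorProduct.productMap
      (IsScalarTower.toAlgHom k kb (kb ⊗[k] K)) (IsScalarTower.toAlgHom k K (kb ⊗[k] K)) z = z := fun z => by
    induction z using TensorProduct.induction_on with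
    | zero => simp
    | add p q hp hq => rw [map_add, hp, hq]
    | tmul a x =>
      show (a ⊗ₜ[k] (1 : K)) * ((1 : kb) ⊗ₜ[k] x) = _
      simp
  have hbij : Function.Bijective (Algebra.TensorProduct.productMap
      (IsScalarTower.toAlgHom k kb (kb ⊗[k] K)) (IsScalarTower.toAlgHom k K (kb ⊗[k] K))) :=
    ⟨fun a b h => by rwa [e, e] at h, fun z => ⟨z, e z⟩⟩
  have h1 := mul_mem_adjoin_of_integral hK hbij hx hγ hgen P hPx hz
  have hAmul : A * A ≤ A := by
    rw [Submodule.span_mul_span]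
    refine Submodule.span_mono ?_
    rintro _ ⟨_, ⟨a, rfl⟩, _, ⟨b, rfl⟩, rfl⟩
    exact ⟨a * b, by simp⟩
  refine Algebra.adjoin_induction (p := fun w _ => w ∈ A) ?_ ?_ (fun _ _ _ _ => A.add_mem)
    (fun _ _ _ _ ha hb => hAmul (Submodule.mul_mem_mul ha hb)) h1
  · rintro _ ⟨c, rfl⟩
    have hh : algebraMap kb (kb ⊗[k] K) c = c • ((1 : kb) ⊗ₜ[k] ((1 : P.O) : K)) := by
      rw [TensorProduct.smul_tmul', smul_eq_mul, mul_one]; rfl
    rw [hh]
    exact A.smul_mem _ (Submodule.subset_span ⟨1, rfl⟩)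
  · rintro ⟨_, o, ho, rfl⟩
    exact Submodule.subset_span ⟨⟨o, ho⟩, rfl⟩

theorem exists_finite_span (hK : IsFunctionField k K) (hg : IsGeometric k K) (P : Place k K) :
    ∃ E : IntermediateField k kb, FiniteDimensional k E ∧ IsPurelyInseparable k E ∧
      ∀ z : kb ⊗[k] K, IsIntegral (Rb kb P) z → z ∈ Submodule.span kb
        {w | IsIntegral (Rb kb P) w ∧ w ∈ (Algebra.TensorProduct.map E.val (AlgHom.id k K)).range} := by
  classical
  haveI : Algebra.IsAlgebraic k kb := Normal.toIsAlgebraic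
  have h := ff hK
  -- the set of integral elements as a subspace, and its descent
  let Bb := Algebra.TensorProduct.basis kb (Module.Basis.ofVectorSpace k K)
  let I : Submodule kb (kb ⊗[k] K) :=
    { carrier := {z | IsIntegral (Rb kb P) z}
      add_mem' := fun ha hb => IsIntegral.add ha hb
      zero_mem' := isIntegral_zero
      smul_mem' := fun c _ hz => isIntegral_smul P c hz }
  let σ : (kb ≃ₐ[k] kb) → kb →+* kb := fun s => (s : kb →+* kb)
  let φ : (kb ≃ₐ[k] kb) → kb ⊗[k] K →ₐ[k] kb ⊗[k] K := fun s =>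
    Algebra.TensorProduct.map (s : kb →ₐ[k] kb) (AlgHom.id k K)
  have hφ : ∀ s z i, Bb.repr (φ s z) i = σ s (Bb.repr z i) := by
    intro s z i
    induction z using TensorProduct.induction_on with
    | zero => simp
    | add a b ha hb => simp only [map_add, Finsupp.add_apply, ha, hb]
    | tmul c x =>
      show Bb.repr (s c ⊗ₜ[k] x) i = s (Bb.repr (c ⊗ₜ[k] x) i)
      rw [Algebra.TensorProduct.basis_repr_tmul, Algebra.TensorProduct.basis_repr_tmul]
      simp
  have hφI : ∀ s z, z ∈ I → φ s z ∈ I := by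
    intro s z hz
    obtain ⟨p, hp, hp0⟩ := hz
    refine ⟨p, hp, ?_⟩
    have hcomp : (algebraMap (Rb kb P) (kb ⊗[k] K)) = (φ s).toRingHom.comp (algebraMap (Rb kb P) (kb ⊗[k] K)) := by
      refine RingHom.ext fun ⟨r, o, ho, hr⟩ => ?_
      subst hr
      show (1 : kb) ⊗ₜ[k] o = φ s ((1 : kb) ⊗ₜ[k] o)
      simp [φ]
    rw [hcomp]
    exact (hom_eval₂ p (algebraMap (Rb kb P) (kb ⊗[k] K)) (φ s).toRingHom z).symm.trans (by rw [hp0, map_zero])
  let M := I.map Bb.repr.toLinearMap
  have hM : M ≤ Submodule.span kb {v | v ∈ M ∧ ∀ s i, σ s (v i) = v i} := by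
    refine le_span_fixed σ M fun s v hv => ?_
    obtain ⟨z, hz, rfl⟩ := hv
    refine ⟨φ s z, hφI s z hz, Finsupp.ext fun i => ?_⟩
    rw [Finsupp.mapRange_apply]
    exact hφ s z i
  set F := {z | IsIntegral (Rb kb P) z ∧ ∀ i, Bb.repr z i ∈ perfectClosure k kb}
  have hIF : I ≤ Submodule.span kb F := by
    intro z hz
    have h1 := hM (Submodule.mem_map_of_mem hz)
    have h2 : Submodule.span kb {v | v ∈ M ∧ ∀ s i, σ s (v i) = v i} ≤ (Submodule.span kb F).map Bb.repr.toLinearMap := by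
      rw [Submodule.span_le]
      rintro v ⟨⟨w, hw, rfl⟩, hv⟩
      exact ⟨w, Submodule.subset_span ⟨hw, fun i => mem_perfectClosure_of_fixed fun s => hv s i⟩, rfl⟩
    obtain ⟨w, hw, hwz⟩ := h2 h1
    exact Bb.repr.injective hwz ▸ hw
  -- finiteness modulo the span of `O_P`
  set A := Submodule.span kb (Set.range fun o : P.O => (1 : kb) ⊗ₜ[k] (o : K))
  obtain ⟨x₀, hx₀, hsep₀⟩ := GeomFF26.exists_separating h hg
  obtain ⟨x, hx, hsep, hPx⟩ : ∃ x : K, Transcendental k x ∧ Algebra.IsSeparable k⟮x⟯ K ∧ P.1 x ≤ 1 := by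
    rcases le_or_gt (P.1 x₀) 1 with hle | hlt
    · exact ⟨x₀, hx₀, hsep₀, hle⟩
    · refine ⟨x₀⁻¹, fun ha => hx₀ (by simpa using ha.inv), ?_, by rw [map_inv₀]; exact inv_le_one_of_one_le₀ hlt.le⟩
      have e : k⟮x₀⁻¹⟯ = k⟮x₀⟯ := le_antisymm
        (adjoin_simple_le_iff.2 (inv_mem (mem_adjoin_simple_self k x₀)))
        (adjoin_simple_le_iff.2 (by simpa using inv_mem (mem_adjoin_simple_self k x₀⁻¹)))
      rw [e]; exact hsep₀
  haveI := hsep
  haveI := h.finiteDimensional hx
  obtain ⟨γ, hγ, hgen⟩ := FunField.Singular.exists_integral_generator (k := k) x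
  set d := aeval γ (derivative (minpoly k⟮x⟯ γ))
  have hd0 : d ≠ 0 := (Algebra.IsSeparable.isSeparable k⟮x⟯ γ).aeval_derivative_ne_zero (minpoly.aeval _ _)
  have hdI : ∀ z ∈ I, ((1 : kb) ⊗ₜ[k] d) * z ∈ A := fun z hz => mul_mem_span hK hg hx hγ hgen P hPx hz
  obtain ⟨t, -, ht⟩ := exists_uniformizer P
  obtain ⟨S, hS⟩ := exists_residue_span h P ht (P.ord d).toNat
  let q := A.mkQ
  have hfg : (I.map q).FG := by
    let N := Submodule.span kb (q '' ((fun r => (1 : kb) ⊗ₜ[k] (d⁻¹ * r)) '' (S : Set K)))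
    have hN : N.FG := Submodule.fg_span ((S.finite_toSet.image _).image _)
    haveI : Module.Finite kb N := Module.Finite.iff_fg.2 hN
    refine Submodule.FG.of_le hN ?_
    rintro _ ⟨z, hz, rfl⟩
    have key : A ≤ (Submodule.span kb ((fun r => (1 : kb) ⊗ₜ[k] r) '' (S : Set K)) ⊔
        A.map (LinearMap.mulLeft kb ((1 : kb) ⊗ₜ[k] d))) := by
      rw [Submodule.span_le]
      rintro _ ⟨o, rfl⟩
      obtain ⟨s, hs, hos⟩ := hS (o : K) o.2
      have hs' : (1 : kb) ⊗ₜ[k] s ∈ Submodule.span kb ((fun r => (1 : kb) ⊗ₜ[k] r) '' (S : Set K)) := by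
        have := Submodule.mem_map_of_mem (f := TensorProduct.mk k kb K 1) hs
        rw [Submodule.map_span] at this
        exact Submodule.span_le_restrictScalars k kb _ this
      have ho' : P.1 (((o : K) - s) / d) ≤ 1 := by
        rw [map_div₀, div_le_iff₀ (zero_lt_iff.2 ((Valuation.ne_zero_iff _).2 hd0)), one_mul]
        refine hos.trans (le_of_le_of_eq ?_ (val_eq_exp_neg_ord P hd0).symm)
        rw [exp_le_exp]; omega
      refine SetLike.mem_coe.2 (Submodule.mem_sup.2 ⟨_, hs', _,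
        Submodule.mem_map_of_mem (Submodule.subset_span ⟨⟨_, ho'⟩, rfl⟩), ?_⟩)
      rw [LinearMap.mulLeft_apply, Algebra.TensorProduct.tmul_mul_tmul, one_mul, mul_div_cancel₀ _ hd0,
        ← TensorProduct.tmul_add, add_sub_cancel]
    obtain ⟨a, ha, b, hb, hab⟩ := Submodule.mem_sup.1 (key (hdI z hz))
    obtain ⟨b', hb', rfl⟩ := hb
    have hz' : z = LinearMap.mulLeft kb ((1 : kb) ⊗ₜ[k] d⁻¹) a + b' := by
      have e1 : ((1 : kb) ⊗ₜ[k] d⁻¹) * ((1 : kb) ⊗ₜ[k] d) = 1 := by
        rw [Algebra.TensorProduct.tmul_mul_tmul, one_mul, inv_mul_cancel₀ hd0]; rfl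
      have := congrArg (fun w => ((1 : kb) ⊗ₜ[k] d⁻¹) * w) hab
      simp only [LinearMap.mulLeft_apply, mul_add, ← mul_assoc, e1, one_mul] at this ⊢
      exact this.symm
    have hb0 : q b' = 0 := (Submodule.Quotient.mk_eq_zero A).2 hb'
    rw [hz', map_add, hb0, add_zero]
    have h3 := Submodule.mem_map_of_mem (f := q) (Submodule.mem_map_of_mem
      (f := LinearMap.mulLeft kb ((1 : kb) ⊗ₜ[k] d⁻¹)) ha)
    rw [Submodule.map_span, Submodule.map_span, Set.image_image, Set.image_image] at h3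
    simp only [LinearMap.mulLeft_apply, Algebra.TensorProduct.tmul_mul_tmul, one_mul] at h3 ⊢
    simpa only [N, Set.image_image] using h3
  have hmap : I.map q = Submodule.span kb (q '' F) := by
    refine le_antisymm ((Submodule.map_mono hIF).trans_eq (Submodule.map_span _ _)) ?_
    rw [Submodule.span_le]
    rintro _ ⟨w, hw, rfl⟩
    exact ⟨w, hw.1, rfl⟩
  obtain ⟨T, hTF, hT⟩ := (Submodule.fg_span_iff_fg_span_finset_subset (q '' F)).1 (hmap ▸ hfg)
  choose ε hεF hεq using fun y : T => hTF y.2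
  let C : Set kb := ⋃ y : T, Set.range fun i : (Bb.repr (ε y)).support => Bb.repr (ε y) i
  have hC : C.Finite := Set.finite_iUnion fun y => Set.finite_range _
  refine ⟨IntermediateField.adjoin k C, ?_, ?_, fun z hz => ?_⟩
  · haveI : Finite C := hC.to_subtype
    exact IntermediateField.finiteDimensional_adjoin fun c _ => Algebra.IsIntegral.isIntegral c
  · rw [← le_perfectClosure_iff, IntermediateField.adjoin_le_iff]
    intro c hc
    obtain ⟨y, i, rfl⟩ := Set.mem_iUnion.1 hc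
    exact (hεF y).2 i
  · set E := IntermediateField.adjoin k C
    set g := Algebra.TensorProduct.map E.val (AlgHom.id k K)
    set G := {w | IsIntegral (Rb kb P) w ∧ w ∈ g.range}
    have hεG : ∀ y, ε y ∈ G := fun y => ⟨(hεF y).1, by
      rw [← Bb.linearCombination_repr (ε y), Finsupp.linearCombination_apply]
      refine sum_mem fun i hi => ?_
      refine ⟨(⟨Bb.repr (ε y) i, subset_adjoin k C (Set.mem_iUnion.2 ⟨y, ⟨i, hi⟩, rfl⟩)⟩ : E) ⊗ₜ[k]
        Module.Basis.ofVectorSpace k K i, ?_⟩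
      show g.toRingHom _ = _
      simp [g, Bb, TensorProduct.smul_tmul']⟩
    have hAG : A ≤ Submodule.span kb G := Submodule.span_le.2 (by
      rintro _ ⟨o, rfl⟩
      exact Submodule.subset_span ⟨isIntegral_of_mem P o.2, ⟨(1 : E) ⊗ₜ[k] (o : K), by simp [g]⟩⟩)
    have hq : q z ∈ (Submodule.span kb G).map q := by
      have h1 : q z ∈ Submodule.span kb (q '' F) := hmap ▸ Submodule.mem_map_of_mem hz
      rw [hT] at h1
      refine Submodule.span_le.2 ?_ h1
      intro y hy
      exact ⟨ε ⟨y, hy⟩, Submodule.subset_span (hεG _), hεq ⟨y, hy⟩⟩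
    obtain ⟨w, hw, hwz⟩ := hq
    have : z - w ∈ A := (Submodule.Quotient.eq A).1 hwz.symm
    simpa using add_mem (hAG this) hw

theorem range_map_mono {E E' : IntermediateField k kb} (h : E ≤ E') :
    (Algebra.TensorProduct.map E.val (AlgHom.id k K)).range ≤
      (Algebra.TensorProduct.map E'.val (AlgHom.id k K)).range := by
  rintro _ ⟨u, rfl⟩
  refine ⟨Algebra.TensorProduct.map (IntermediateField.inclusion h) (AlgHom.id k K) u, ?_⟩
  show Algebra.TensorProduct.map E'.val (AlgHom.id k K) _ = Algebra.TensorProduct.map E.val (AlgHom.id k K) u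
  induction u using TensorProduct.induction_on with
  | zero => simp
  | add a b ha hb => simp only [map_add, ha, hb]
  | tmul c y => rfl

/-- One finite purely inseparable extension works for all places. -/
theorem exists_uniform (hK : IsFunctionField k K) (hg : IsGeometric k K) :
    ∃ E : IntermediateField k kb, FiniteDimensional k E ∧ IsPurelyInseparable k E ∧
      ∀ (P : Place k K) (z : kb ⊗[k] K), IsIntegral (Rb kb P) z → z ∈ Submodule.span kb
        {w | IsIntegral (Rb kb P) w ∧ w ∈ (Algebra.TensorProduct.map E.val (AlgHom.id k K)).range} := by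
  classical
  have h := ff hK
  obtain ⟨x, hx, hsep⟩ := GeomFF26.exists_separating h hg
  haveI := hsep
  haveI := h.finiteDimensional hx
  obtain ⟨γ, hγ, hgen⟩ := FunField.Singular.exists_integral_generator (k := k) x
  set d := aeval γ (derivative (minpoly k⟮x⟯ γ))
  have hd0 : d ≠ 0 := (Algebra.IsSeparable.isSeparable k⟮x⟯ γ).aeval_derivative_ne_zero (minpoly.aeval _ _)
  have hx0 : x ≠ 0 := fun e => hx (e ▸ isAlgebraic_zero)
  have hfin := ((finite_zeros_set h (inv_ne_zero hx0)).union (finite_zeros_set h hd0)).union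
    (finite_zeros_set h (inv_ne_zero hd0))
  choose E hEfin hEpi hEspan using fun P : Place k K => exists_finite_span (kb := kb) hK hg P
  haveI := hfin.to_subtype
  haveI : ∀ i : (↥({P : Place k K | P.1 x⁻¹ < 1} ∪ {P | P.1 d < 1} ∪ {P | P.1 d⁻¹ < 1})),
      FiniteDimensional k (E i.1) := fun i => hEfin i.1
  refine ⟨⨆ i : (↥({P : Place k K | P.1 x⁻¹ < 1} ∪ {P | P.1 d < 1} ∪ {P | P.1 d⁻¹ < 1})), E i.1,
    inferInstance, ?_, fun P z hz => ?_⟩
  · rw [← le_perfectClosure_iff]
    exact iSup_le fun i => (le_perfectClosure_iff k kb (E i.1)).2 (hEpi i.1)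
  by_cases hP : P ∈ ({P : Place k K | P.1 x⁻¹ < 1} ∪ {P | P.1 d < 1} ∪ {P | P.1 d⁻¹ < 1})
  · refine Submodule.span_mono ?_ (hEspan P z hz)
    rintro w ⟨hw1, hw2⟩
    exact ⟨hw1, range_map_mono (le_iSup (fun i : (↥({P : Place k K | P.1 x⁻¹ < 1} ∪ {P | P.1 d < 1} ∪
      {P | P.1 d⁻¹ < 1})) => E i.1) ⟨P, hP⟩) hw2⟩
  · simp only [Set.mem_union, Set.mem_ofPred_eq, map_inv₀, not_or, not_lt] at hP
    obtain ⟨⟨hPx, hPd⟩, hPd'⟩ := hP
    rw [one_le_inv₀ (zero_lt_iff.2 ((Valuation.ne_zero_iff _).2 hx0))] at hPx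
    rw [one_le_inv₀ (zero_lt_iff.2 ((Valuation.ne_zero_iff _).2 hd0))] at hPd'
    have h1 := mul_mem_span hK hg hx hγ hgen P hPx hz
    set G := Submodule.span kb {w | IsIntegral (Rb kb P) w ∧
      w ∈ (Algebra.TensorProduct.map (⨆ i : (↥({P : Place k K | P.1 x⁻¹ < 1} ∪ {P | P.1 d < 1} ∪
        {P | P.1 d⁻¹ < 1})), E i.1).val (AlgHom.id k K)).range}
    have hz' : z ∈ (Submodule.span kb (Set.range fun o : P.O => (1 : kb) ⊗ₜ[k] (o : K))).map
        (LinearMap.mulLeft kb ((1 : kb) ⊗ₜ[k] d⁻¹)) := by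
      refine ⟨_, h1, ?_⟩
      rw [LinearMap.mulLeft_apply, ← mul_assoc, Algebra.TensorProduct.tmul_mul_tmul, one_mul,
        inv_mul_cancel₀ hd0]
      exact one_mul z
    rw [Submodule.map_span] at hz'
    refine Submodule.span_mono ?_ hz'
    rintro _ ⟨_, ⟨o, rfl⟩, rfl⟩
    have ho : P.1 (d⁻¹ * (o : K)) ≤ 1 := by
      rw [map_mul, map_inv₀, le_antisymm hPd' hPd, inv_one, one_mul]; exact o.2
    rw [LinearMap.mulLeft_apply, Algebra.TensorProduct.tmul_mul_tmul, one_mul]
    exact ⟨isIntegral_of_mem P ho, ⟨(1 : _) ⊗ₜ[k] (d⁻¹ * (o : K)), rfl⟩⟩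

end Groth.Agent.NonsingPI28
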