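import Groth.Agent.Lib.FunField.Singular26

/-! # A conductor which does not depend on the constant extension

Adapted from `Groth.Agent.Lib.FunField.Singular26`. -/

set_option linter.style.haveILetI false

namespace Groth.Agent.NonsingPI28

open WithZero FunFld TensorProduct Polynomial IntermediateField FunField FunField.Singular
open scoped Multiplicative IntermediateField.algebraAdjoinAdjoin

variable {k K : Type*} [Field k] [Field K] [Algebra k K]
variable {k' K' : Type*} [Field k'] [Field K'] [Algebra k k'] [Algebra K K'] [Algebra k' K'] [Algebra k K']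
  [IsScalarTower k k' K'] [IsScalarTower k K K']

/-- Integral elements lie in `d⁻¹ O_P[k']`, with `d` independent of `k'`. -/
theorem mul_mem_adjoin_of_integral [Algebra.IsAlgebraic k k'] (hK : IsFunctionField k K)
    (h : Function.Bijective (Algebra.TensorProduct.productMap
      (IsScalarTower.toAlgHom k k' K') (IsScalarTower.toAlgHom k K K')))
    {x γ : K} (hx : Transcendental k x) [Algebra.IsSeparable k⟮x⟯ K]
    (hγ : IsIntegral (Algebra.adjoin k ({x} : Set K)) γ) (hgen : k⟮x⟯⟮γ⟯ = ⊤)
    (P : Place k K) (hPx : P.1 x ≤ 1)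
    {z : K'} (hz : IsIntegral (P.O.toSubring.map (algebraMap K K')) z) :
    algebraMap K K' (aeval γ (derivative (minpoly k⟮x⟯ γ))) * z ∈
      Algebra.adjoin (P.O.toSubring.map (algebraMap K K')) (Set.range (algebraMap k' K')) := by
  classical
  set xb := algebraMap K K' x with hxb
  set γb := algebraMap K K' γ with hγb
  have hxbt : Transcendental k' xb := fun ha => hx <| by
    have h' : IsAlgebraic k xb := IsAlgebraic.restrictScalars k ha
    exact (isAlgebraic_algHom_iff (IsScalarTower.toAlgHom k K K') (algebraMap K K').injective).1 h'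
  let L := k'⟮xb⟯
  let A := Algebra.adjoin k' ({xb} : Set K')
  haveI : FaithfulSMul A L := (faithfulSMul_iff_algebraMap_injective A L).2 fun a b e =>
    Subtype.ext (congrArg (fun u : L => (u : K')) e)
  haveI : IsFractionRing A L := IsFractionRing.of_field A L fun z => by
    obtain ⟨r, hr, s, hs, e⟩ := IntermediateField.mem_adjoin_iff_div.1 z.2
    exact ⟨⟨r, hr⟩, ⟨s, hs⟩, Subtype.ext e⟩
  haveI : IsScalarTower A L K' := IsScalarTower.of_algebraMap_eq fun _ => rfl
  haveI : IsIntegrallyClosed A := by
    have e : k'[X] ≃ₐ[k'] A := (AlgEquiv.ofInjective (aeval xb)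
      (transcendental_iff_injective.1 hxbt)).trans
      (Subalgebra.equivOfEq _ _ (Algebra.adjoin_singleton_eq_range_aeval k' xb).symm)
    exact IsIntegrallyClosed.of_equiv e.toRingEquiv
  have hι : ∀ r : K, r ∈ k⟮x⟯ → algebraMap K K' r ∈ L := fun r hr => by
    have : k⟮x⟯ ≤ (L.restrictScalars k).comap (IsScalarTower.toAlgHom k K K') :=
      adjoin_simple_le_iff.2 (mem_adjoin_simple_self k' xb)
    exact this hr
  let ι : k⟮x⟯ →+* L := ((algebraMap K K').comp k⟮x⟯.val.toRingHom).codRestrict L fun r => hι r r.2
  have hιc : (algebraMap L K').comp ι = (algebraMap K K').comp (algebraMap k⟮x⟯ K) := rfl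
  -- integrality transfers
  have hAint : ∀ {r : K}, IsIntegral (Algebra.adjoin k ({x} : Set K)) r → IsIntegral A (algebraMap K K' r) := by
    intro r hr
    have hmem : ∀ a : Algebra.adjoin k ({x} : Set K), algebraMap K K' a ∈ A := fun a => by
      have : Algebra.adjoin k ({x} : Set K) ≤ (A.restrictScalars k).comap (IsScalarTower.toAlgHom k K K') :=
        Algebra.adjoin_le (by rintro _ rfl; exact Algebra.subset_adjoin rfl)
      exact this a.2
    let f : Algebra.adjoin k ({x} : Set K) →+* A :=
      ((algebraMap K K').comp (Algebra.adjoin k ({x} : Set K)).val.toRingHom).codRestrict A hmem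
    obtain ⟨p, hp, hp0⟩ := hr
    refine ⟨p.map f, hp.map f, ?_⟩
    rw [eval₂_map, show (algebraMap A K').comp f = (algebraMap K K').comp (algebraMap _ K) from rfl,
      ← hom_eval₂, hp0, map_zero]
  have hγA : IsIntegral A γb := hAint hγ
  have hγL : IsIntegral L γb := hγA.tower_top
  haveI : IsScalarTower k L K' := IsScalarTower.of_algebraMap_eq fun c => by
    show algebraMap k K' c = ((algebraMap k L c : L) : K')
    rfl
  have htop : L⟮γb⟯ = ⊤ := by
    rw [eq_top_iff]
    intro w hw
    obtain ⟨u, rfl⟩ := h.2 w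
    clear hw
    induction u using TensorProduct.induction_on with
    | zero => simp
    | add p q hp hq => rw [map_add]; exact add_mem hp hq
    | tmul c r =>
      show algebraMap k' K' c * algebraMap K K' r ∈ _
      refine mul_mem (IntermediateField.algebraMap_mem L⟮γb⟯ (algebraMap k' L c)) ?_
      have hle : k⟮x⟯⟮γ⟯.restrictScalars k ≤ (L⟮γb⟯.restrictScalars k).comap (IsScalarTower.toAlgHom k K K') := by
        rw [restrictScalars_adjoin, adjoin_le_iff]
        rintro y (hy | rfl)
        · exact IntermediateField.algebraMap_mem L⟮γb⟯ (⟨algebraMap K K' y, hι y hy⟩ : L)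
        · exact mem_adjoin_simple_self _ _
      exact hle (show r ∈ k⟮x⟯⟮γ⟯.restrictScalars k by rw [hgen]; trivial)
  have htopA : Algebra.adjoin L ({γb} : Set K') = ⊤ := by
    rw [← adjoin_simple_toSubalgebra_of_isAlgebraic hγL.isAlgebraic, htop, top_toSubalgebra]
  haveI : FiniteDimensional L K' := by
    haveI := adjoin.finiteDimensional hγL
    exact Module.Finite.equiv ((IntermediateField.equivOfEq htop).trans IntermediateField.topEquiv).toLinearEquiv
  set g := (minpoly k⟮x⟯ γ).map ι
  have hγk : IsIntegral k⟮x⟯ γ := hγ.tower_top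
  have hg0 : aeval γb g = 0 := by
    rw [aeval_def, eval₂_map, hιc, ← hom_eval₂, ← aeval_def, minpoly.aeval, map_zero]
  have hdvd : minpoly L γb ∣ g := minpoly.dvd _ _ hg0
  have hgsep : g.Separable := Polynomial.Separable.map (Algebra.IsSeparable.isSeparable k⟮x⟯ γ)
  haveI : Algebra.IsSeparable L K' := by
    have : Algebra.IsSeparable L L⟮γb⟯ :=
      (isSeparable_adjoin_simple_iff_isSeparable L K').2 (hgsep.of_dvd hdvd)
    haveI := this
    exact AlgEquiv.Algebra.isSeparable ((IntermediateField.equivOfEq htop).trans IntermediateField.topEquiv)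
  -- the cofactor has coefficients in `A`
  obtain ⟨pγ, hpγm, hpγ⟩ : ∃ p : A[X], p.Monic ∧ p.map (algebraMap A L) = g := by
    haveI : IsIntegrallyClosed (Algebra.adjoin k ({x} : Set K)) := by
      have e : k[X] ≃ₐ[k] Algebra.adjoin k ({x} : Set K) := (AlgEquiv.ofInjective (aeval x)
        (transcendental_iff_injective.1 hx)).trans
        (Subalgebra.equivOfEq _ _ (Algebra.adjoin_singleton_eq_range_aeval k x).symm)
      exact IsIntegrallyClosed.of_equiv e.toRingEquiv
    have hmem : ∀ a : Algebra.adjoin k ({x} : Set K), algebraMap K K' a ∈ A := fun a => by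
      have : Algebra.adjoin k ({x} : Set K) ≤ (A.restrictScalars k).comap (IsScalarTower.toAlgHom k K K') :=
        Algebra.adjoin_le (by rintro _ rfl; exact Algebra.subset_adjoin rfl)
      exact this a.2
    let f : Algebra.adjoin k ({x} : Set K) →+* A :=
      ((algebraMap K K').comp (Algebra.adjoin k ({x} : Set K)).val.toRingHom).codRestrict A hmem
    refine ⟨(minpoly (Algebra.adjoin k ({x} : Set K)) γ).map f, (minpoly.monic hγ).map f, ?_⟩
    show _ = (minpoly k⟮x⟯ γ).map ι
    rw [minpoly.isIntegrallyClosed_eq_field_fractions' k⟮x⟯ hγ, Polynomial.map_map, Polynomial.map_map]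
    rfl
  obtain ⟨q, hq⟩ := hdvd
  have hqg : q ∣ pγ.map (algebraMap A L) := by rw [hpγ, hq]; exact dvd_mul_left _ _
  obtain ⟨q', hq'⟩ := IsIntegrallyClosed.eq_map_mul_C_of_dvd L hpγm hqg
  have hqm : q.Monic := (minpoly.monic hγL).of_mul_monic_left (hq ▸ hpγ ▸ hpγm.map _)
  rw [hqm.leadingCoeff, C_1, mul_one] at hq'
  have hcof : aeval γb q ∈ Algebra.adjoin A ({γb} : Set K') := by
    rw [← hq', aeval_map_algebraMap]
    rw [Algebra.adjoin_singleton_eq_range_aeval]; exact ⟨q', rfl⟩
  have hder : aeval γb (derivative g) = aeval γb (derivative (minpoly L γb)) * aeval γb q := by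
    rw [hq, derivative_mul, map_add, map_mul, map_mul, minpoly.aeval, zero_mul, add_zero]
  -- the trace argument
  have key : ∀ w : K', IsIntegral A w → aeval γb (derivative g) * w ∈ Algebra.adjoin A ({γb} : Set K') := by
    intro w hw
    have hdual : w ∈ (Algebra.traceForm L K').dualSubmodule
        (Subalgebra.toSubmodule (Algebra.adjoin A ({γb} : Set K'))) := by
      intro y hy
      rw [Algebra.traceForm_apply]
      have hyint : IsIntegral A y := by
        have : Algebra.adjoin A ({γb} : Set K') ≤ integralClosure A K' :=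
          Algebra.adjoin_le (by rintro _ rfl; exact hγA)
        exact this hy
      obtain ⟨r, hr⟩ := IsIntegrallyClosed.isIntegral_iff.1 (Algebra.isIntegral_trace (L := L) (hw.mul hyint))
      exact Submodule.mem_one.2 ⟨r, hr⟩
    rw [traceForm_dualSubmodule_adjoin A L htopA hγA] at hdual
    obtain ⟨b, hb, rfl⟩ := hdual
    have hne : aeval γb (derivative (minpoly L γb)) ≠ 0 :=
      (Algebra.IsSeparable.isSeparable L γb).aeval_derivative_ne_zero (minpoly.aeval _ _)
    show aeval γb (derivative g) * ((aeval γb (derivative (minpoly L γb)))⁻¹ • b) ∈ _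
    rw [hder, smul_eq_mul]
    rw [show ∀ u v : K', u * v * (u⁻¹ * b) = (u * u⁻¹) * (v * b) from fun u v => by ring,
      mul_inv_cancel₀ hne, one_mul]
    exact mul_mem hcof hb
  -- clear denominators of an integral equation
  set R := P.O.toSubring.map (algebraMap K K')
  obtain ⟨p, hpm, hp0⟩ := hz
  have hpre : ∀ i, ∃ a : K, P.1 a ≤ 1 ∧ algebraMap K K' a = (p.coeff i : K') := fun i => by
    obtain ⟨a, ha, e⟩ := Subring.mem_map.1 (p.coeff i).2
    exact ⟨a, ha, e⟩
  choose a ha hae using hpre
  obtain ⟨s, hs1, hsint, hsa⟩ := exists_clear hK hx P hPx ((Finset.range p.natDegree).image a)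
    (by intro b hb; obtain ⟨i, -, rfl⟩ := Finset.mem_image.1 hb; exact ha i)
  set sb := algebraMap K K' s
  have hw : IsIntegral A (sb * z) := by
    let S := integralClosure A K'
    have hsS : sb ∈ S := hAint hsint
    refine isIntegral_trans (R := A) (A := S) (sb * z) ?_
    let c : ℕ → S := fun i => if hi : i < p.natDegree then
      ⟨algebraMap K K' (s * a i) * sb ^ (p.natDegree - i - 1), ?_⟩ else 0
    · refine ⟨X ^ p.natDegree + ∑ i ∈ Finset.range p.natDegree, C (c i) * X ^ i, ?_, ?_⟩
      · exact monic_X_pow_add ((degree_sum_le _ _).trans_lt ((Finset.sup_lt_iff (WithBot.bot_lt_coe _)).2 fun i hi =>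
          (degree_C_mul_X_pow_le _ _).trans_lt (by exact_mod_cast Finset.mem_range.1 hi)))
      · rw [eval₂_eq_sum_range] at hp0
        rw [Finset.sum_range_succ, hpm.coeff_natDegree, map_one, one_mul] at hp0
        rw [eval₂_add, eval₂_X_pow, eval₂_finsetSum]
        simp only [eval₂_mul, eval₂_C, eval₂_X_pow]
        have e : ∀ i ∈ Finset.range p.natDegree, algebraMap S K' (c i) * (sb * z) ^ i =
            sb ^ p.natDegree * (algebraMap R K' (p.coeff i) * z ^ i) := fun i hi => by
          have hi' := Finset.mem_range.1 hi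
          simp only [c, dif_pos hi']
          show algebraMap K K' (s * a i) * sb ^ (p.natDegree - i - 1) * _ = _
          rw [map_mul, hae, mul_pow]
          show sb * (p.coeff i : K') * _ * _ = sb ^ p.natDegree * ((p.coeff i : K') * z ^ i)
          have : sb ^ p.natDegree = sb * sb ^ (p.natDegree - i - 1) * sb ^ i := by
            rw [← pow_succ', ← pow_add]; congr 1; omega
          rw [this]; ring
        rw [Finset.sum_congr rfl e, ← Finset.mul_sum, mul_pow, ← mul_add, add_comm, hp0, mul_zero]
    · exact mul_mem (hAint (hsa _ (Finset.mem_image_of_mem a (Finset.mem_range.2 hi)))) (pow_mem hsS _)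
  set T := Algebra.adjoin R (Set.range (algebraMap k' K'))
  have hKT : ∀ r : K, P.1 r ≤ 1 → algebraMap K K' r ∈ T := fun r hr =>
    T.algebraMap_mem ⟨_, Subring.mem_map.2 ⟨r, hr, rfl⟩⟩
  have hint_le : ∀ {r : K}, IsIntegral (Algebra.adjoin k ({x} : Set K)) r → P.1 r ≤ 1 := by
    intro r hr
    have hle : (Algebra.adjoin k ({x} : Set K) : Set K) ⊆ P.O := by
      intro b hb
      induction hb using Algebra.adjoin_induction with
      | mem w hw => rw [Set.mem_singleton_iff] at hw; subst hw; exact hPx
      | algebraMap c => exact P.2.1 c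
      | add u v _ _ hu hv => exact add_mem hu hv
      | mul u v _ _ hu hv => exact mul_mem hu hv
    let f : Algebra.adjoin k ({x} : Set K) →+* P.O :=
      (Algebra.adjoin k ({x} : Set K)).val.toRingHom.codRestrict P.O fun b => hle b.2
    obtain ⟨p, hp, hp0⟩ := hr
    obtain ⟨o, ho⟩ := IsIntegrallyClosed.isIntegral_iff.1
      (⟨p.map f, hp.map f, by rw [eval₂_map]; exact hp0⟩ : IsIntegral P.O r)
    exact ho ▸ o.2
  have hAT : ∀ w ∈ Algebra.adjoin A ({γb} : Set K'), w ∈ T := by
    intro w hw
    induction hw using Algebra.adjoin_induction with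
    | mem v hv => rw [Set.mem_singleton_iff] at hv; subst hv; exact hKT γ (hint_le hγ)
    | algebraMap c =>
      obtain ⟨c, hc⟩ := c
      show c ∈ T
      induction hc using Algebra.adjoin_induction with
      | mem v hv => rw [Set.mem_singleton_iff] at hv; subst hv; exact hKT x hPx
      | algebraMap d => exact Algebra.subset_adjoin ⟨d, rfl⟩
      | add u v _ _ hu hv => exact add_mem hu hv
      | mul u v _ _ hu hv => exact mul_mem hu hv
    | add u v _ _ hu hv => exact add_mem hu hv
    | mul u v _ _ hu hv => exact mul_mem hu hv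
  set d := aeval γ (derivative (minpoly k⟮x⟯ γ))
  have hd : algebraMap K K' d = aeval γb (derivative g) := by
    rw [derivative_map]
    simp only [d, aeval_def, eval₂_map, hιc]
    exact hom_eval₂ _ _ _ _
  have h1 := hAT _ (key _ hw)
  rw [← hd] at h1
  have hs0 : s ≠ 0 := fun e => by rw [e, map_zero] at hs1; exact zero_ne_one hs1
  have h2 := mul_mem (hKT s⁻¹ (by rw [map_inv₀, hs1, inv_one])) h1
  have hone : algebraMap K K' s⁻¹ * sb = 1 := by rw [← map_mul, inv_mul_cancel₀ hs0, map_one]
  rwa [mul_left_comm (algebraMap K K' s⁻¹), ← mul_assoc (algebraMap K K' s⁻¹), hone, one_mul] at h2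

end Groth.Agent.NonsingPI28
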