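import Groth.Agent.Lib.NonsingPI28.Closure
import Groth.Agent.Lib.NonsingTower28.Basic

/-! # A finite purely inseparable constant extension making a function field nonsingular -/

set_option autoImplicit false
set_option linter.style.haveILetI false

namespace Groth.Agent.NonsingPI28

open FunFld WithZero FunField Polynomial NonsingTower28
open scoped Multiplicative TensorProduct

universe u v

variable {k k' k'' : Type u} {K K' K'' : Type v} [Field k] [Field k'] [Field k''] [Field K] [Field K'] [Field K'']
  [Algebra k' k''] [Algebra k' K'] [Algebra K' K''] [Algebra k'' K''] [Algebra k' K'']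
  [IsScalarTower k' k'' K''] [IsScalarTower k' K' K'']
  [Algebra k k'] [Algebra k k''] [IsScalarTower k k' k''] [Algebra k K] [Algebra K K'] [Algebra k K']
  [IsScalarTower k k' K'] [IsScalarTower k K K'] [Algebra k K''] [Algebra K K'']
  [IsScalarTower K K' K''] [IsScalarTower k K K'']

/-- The integrality of coordinates implies nonsingularity at each place above. -/
theorem nonsingular_of_coords [FiniteDimensional k k'] [FiniteDimensional k' k''] [FiniteDimensional K K']
    (hh : FF k K) {ι : Type*} [Fintype ι] (ω : Module.Basis ι k' k'') (W : Module.Basis ι K' K'')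
    (hW : ∀ i, W i = algebraMap k'' K'' (ω i)) (P : Place k K)
    (hco : ∀ z : K'', IsIntegral (P.O.toSubring.map (algebraMap K K'')) z →
      ∀ i, IsIntegral (P.O.toSubring.map (algebraMap K K')) (W.repr z i))
    (Q : Place k K') (hQ : IsOver Q P) :
    integralClosure (Q.O.toSubring.map (algebraMap K' K'')) K'' =
      Algebra.adjoin (Q.O.toSubring.map (algebraMap K' K'')) (Set.range (algebraMap k'' K'')) := by
  classical
  set R' := P.O.toSubring.map (algebraMap K K') with hR'
  set R'' := P.O.toSubring.map (algebraMap K K'') with hR''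
  have hmap : R'' = R'.map (algebraMap K' K'') := by
    rw [hR'', hR', Subring.map_map, ← IsScalarTower.algebraMap_eq]
  haveI : FiniteDimensional k k'' := FiniteDimensional.trans k k' k''
  -- integral closure in `K'`
  have hIC' : ∀ a : K', IsIntegral R' a ↔ ∀ Q : Place k K', IsOver Q P → Q.1 a ≤ 1 := by
    intro a
    constructor
    · intro ha Q hQ
      have hle : R' ≤ Q.O.toSubring := by
        rintro _ ⟨r, hr, rfl⟩
        obtain ⟨e, he⟩ := hQ
        show Q.1 (algebraMap K K' r) ≤ 1
        rw [he]; exact pow_le_one₀ zero_le hr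
      obtain ⟨b, hb⟩ := IsIntegrallyClosed.isIntegral_iff.1
        (show IsIntegral Q.O a from isIntegral_of_le hle ha)
      exact hb ▸ b.2
    · intro ha
      letI : Algebra P.O K' := ((algebraMap K K').comp P.O.subtype).toAlgebra
      haveI : IsScalarTower P.O K K' := IsScalarTower.of_algebraMap_eq' rfl
      obtain ⟨p, hp, hp0⟩ := (isIntegral_iff hh P a).2 ha
      exact isIntegral_subring_of_ringHom R' _ (fun c => ⟨c.1, c.2, rfl⟩) hp hp0
  have hk'O : ∀ (Q : Place k K') (c : k'), Q.1 (algebraMap k' K' c) ≤ 1 := fun Q c => by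
    rcases eq_or_ne c 0 with rfl | hc
    · simp
    · exact (val_eq_one_of_isAlgebraic Q ((Algebra.IsAlgebraic.isAlgebraic c).algebraMap) (by simpa using hc)).le
  have hadQ : ∀ (Q : Place k K') (z : K''),
      z ∈ Algebra.adjoin (Q.O.toSubring.map (algebraMap K' K'')) (Set.range (algebraMap k'' K'')) ↔
        ∀ i, Q.1 (W.repr z i) ≤ 1 := by
    intro Q z
    rw [mem_adjoin_iff ω W hW Q.O.toSubring _ rfl]
    refine forall_congr' fun i => ⟨fun h => ?_, fun h =>
      Subalgebra.algebraMap_mem _ (⟨_, h⟩ : Q.O.toSubring)⟩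
    generalize W.repr z i = w at h ⊢
    induction h using Algebra.adjoin_induction with
    | mem x hx => obtain ⟨c, rfl⟩ := hx; exact hk'O Q c
    | algebraMap r => exact r.2
    | add x y _ _ hx hy => exact (Valuation.map_add_le _ hx hy)
    | mul x y _ _ hx hy => rw [map_mul]; exact mul_le_one' hx hy
  have hconstint : ∀ (R : Subring K''), (∀ c : k, algebraMap k K'' c ∈ R) →
      Algebra.adjoin R (Set.range (algebraMap k'' K'')) ≤ integralClosure R K'' := by
    intro R hR
    rw [Algebra.adjoin_le_iff]
    rintro _ ⟨c, rfl⟩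
    have h1 := (IsIntegral.of_finite k c).map (⟨algebraMap k'' K'', fun r => ?_⟩ : k'' →ₐ[k] K'')
    · obtain ⟨p, hp, hp0⟩ := h1
      exact isIntegral_subring_of_ringHom R _ hR hp hp0
    · show algebraMap k'' K'' (algebraMap k k'' r) = algebraMap k K'' r
      rw [IsScalarTower.algebraMap_apply k k' k'', ← IsScalarTower.algebraMap_apply k' k'' K'',
        IsScalarTower.algebraMap_apply k' K' K'', ← IsScalarTower.algebraMap_apply k k' K',
        IsScalarTower.algebraMap_apply k K K', ← IsScalarTower.algebraMap_apply K K' K'',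
        ← IsScalarTower.algebraMap_apply]
  have hkP : ∀ c : k, algebraMap k K'' c ∈ R'' := fun c =>
    ⟨algebraMap k K c, P.2.1 c, (IsScalarTower.algebraMap_apply k K K'' c).symm⟩
  refine le_antisymm (fun z hz => ?_) (hconstint _ fun c => ?_)
  · rw [hadQ]
    obtain ⟨p, hp, hp0⟩ := hz
    set S := (finite_fibre (K' := K') hh P).toFinset.erase Q with hS
    choose r hr hrc using fun j => Subring.mem_map.1 (p.coeff j).2
    obtain ⟨N, hN⟩ : ∃ N : ℕ, ∀ R ∈ S, ∀ j ∈ Finset.range (p.natDegree + 1), R.1 (r j) ≤ exp (N : ℤ) := by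
      refine ⟨∑ R ∈ S, ∑ j ∈ Finset.range (p.natDegree + 1), (-R.ord (r j)).toNat, fun R hR j hj => ?_⟩
      rcases eq_or_ne (r j) 0 with h0 | h0
      · rw [h0, map_zero]; exact zero_le
      · rw [val_le_exp_iff R h0]
        have h1 := Finset.single_le_sum (f := fun R : Place k K' =>
          ∑ j ∈ Finset.range (p.natDegree + 1), (-R.ord (r j)).toNat) (fun _ _ => Nat.zero_le _) hR
        have h2 := Finset.single_le_sum (f := fun j => (-R.ord (r j)).toNat) (fun _ _ => Nat.zero_le _) hj
        omega
    obtain ⟨a, ha1, ha2⟩ := exists_near_one_near_zero Q S (Finset.notMem_erase _ _) (N + 1)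
    have haQ : Q.1 a = 1 := by
      rw [show a = (a - 1) + 1 by ring, Valuation.map_add_eq_of_lt_right _ ?_, map_one]
      rw [map_one]
      exact lt_of_le_of_lt ha1 (by rw [← exp_zero, exp_lt_exp]; omega)
    have haz : algebraMap K' K'' a * z ∈ integralClosure R'' K'' := by
      obtain hd | hd := Nat.eq_zero_or_pos p.natDegree
      · exfalso
        rw [hp.natDegree_eq_zero.1 hd, eval₂_one] at hp0
        exact one_ne_zero hp0
      set q : K'[X] := X ^ p.natDegree + ∑ j ∈ Finset.range p.natDegree, C (r j * a ^ (p.natDegree - j)) * X ^ j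
      have hq0 : q.eval₂ (algebraMap K' K'') (algebraMap K' K'' a * z) = 0 := by
        rw [eval₂_eq_sum_range, Finset.sum_range_succ, hp.coeff_natDegree, map_one, one_mul] at hp0
        rw [eval₂_add, eval₂_finsetSum, eval₂_X_pow]
        simp only [eval₂_mul, eval₂_C, eval₂_X_pow]
        rw [show (0 : K'') = algebraMap K' K'' a ^ p.natDegree * 0 by ring, ← hp0, mul_add, Finset.mul_sum,
          mul_pow, add_comm]
        congr 1
        refine Finset.sum_congr rfl fun j hj => ?_
        rw [show algebraMap (Q.O.toSubring.map (algebraMap K' K'')) K'' (p.coeff j) = algebraMap K' K'' (r j) from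
          (hrc j).symm, map_mul, map_pow, mul_pow,
          ← pow_sub_mul_pow (algebraMap K' K'' a) (Finset.mem_range.1 hj).le]
        ring
      have hqm : q.Monic := monic_X_pow_add ((degree_sum_le _ _).trans_lt ((Finset.sup_lt_iff (WithBot.bot_lt_coe _)).2
        fun j hj => (degree_C_mul_X_pow_le _ _).trans_lt (WithBot.coe_lt_coe.2 (Finset.mem_range.1 hj))))
      have hcoef : ∀ j ∈ Finset.range p.natDegree, IsIntegral R' (r j * a ^ (p.natDegree - j)) := by
        intro j hj
        refine (hIC' _).2 fun R hR => ?_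
        rw [map_mul, map_pow]
        rcases eq_or_ne R Q with rfl | hne
        · rw [haQ, one_pow, mul_one]
          exact hr j
        · have hRS : R ∈ S := Finset.mem_erase.2 ⟨hne, (finite_fibre hh P).mem_toFinset.2 hR⟩
          rw [Finset.mem_range] at hj
          refine (mul_le_mul' (hN R hRS j (Finset.mem_range.2 (by omega)))
            (pow_le_pow_left₀ zero_le (ha2 R hRS) _)).trans ?_
          rw [← exp_nsmul, ← exp_add, ← exp_zero, exp_le_exp, nsmul_eq_mul, mul_neg]
          have h1 : ((N : ℤ) + 1) * 1 ≤ ((p.natDegree - j : ℕ) : ℤ) * ((N : ℤ) + 1) := by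
            rw [mul_comm]
            exact Int.mul_le_mul_of_nonneg_right (by omega) (by omega)
          push_cast
          omega
      -- transitivity
      let C'' := integralClosure R' K'
      have hint : IsIntegral R' (algebraMap K' K'' a * z : K'') → algebraMap K' K'' a * z ∈ integralClosure R'' K'' := by
        intro h3
        obtain ⟨f, hf, hf0⟩ := h3
        exact isIntegral_subring_of_ringHom R'' _ (fun x => hmap ▸ Subring.mem_map.2 ⟨_, x.2, rfl⟩) hf hf0
      refine hint (isIntegral_trans (A := C'') _ ?_)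
      have hl : q ∈ Polynomial.lifts (algebraMap C'' K') := by
        refine (Polynomial.lifts_iff_coeff_lifts q).2 fun n => ?_
        rw [coeff_add, finsetSum_coeff]
        simp only [coeff_C_mul_X_pow, Finset.sum_ite_eq, coeff_X_pow]
        refine ⟨⟨(if n = p.natDegree then 1 else 0) +
          (if n ∈ Finset.range p.natDegree then r n * a ^ (p.natDegree - n) else 0), ?_⟩, rfl⟩
        refine C''.add_mem ?_ ?_ <;> split
        · exact C''.one_mem
        · exact C''.zero_mem
        · exact hcoef n ‹_›
        · exact C''.zero_mem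
      obtain ⟨f, hf, hfd, hfm⟩ := Polynomial.lifts_and_natDegree_eq_and_monic hl hqm
      refine ⟨f, hfm, ?_⟩
      rw [IsScalarTower.algebraMap_eq C'' K' K'', ← eval₂_map, hf]
      exact hq0
    intro i
    have h3 := hco _ haz i
    rw [← Algebra.smul_def, map_smul, Finsupp.smul_apply, smul_eq_mul] at h3
    have h4 : Q.1 (a * W.repr z i) ≤ 1 := by
      exact (hIC' _).1 h3 Q hQ
    rwa [map_mul, haQ, one_mul] at h4
  · exact ⟨algebraMap k K' c, Q.2.1 c, by
      rw [IsScalarTower.algebraMap_apply k K K', ← IsScalarTower.algebraMap_apply K K' K'',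
        ← IsScalarTower.algebraMap_apply]⟩

/-- Coordinates of integral elements are integral when the integral closure in `k̄ ⊗ K` is defined over `k'`. -/
theorem coords_integral {kb : Type u} [Field kb] [Algebra k kb] [Algebra k' kb] [IsScalarTower k k' kb]
    [Algebra.IsAlgebraic k kb]
    (σ : k'' →ₐ[k'] kb)
    (h1 : Function.Bijective (Algebra.TensorProduct.productMap
      (IsScalarTower.toAlgHom k k' K') (IsScalarTower.toAlgHom k K K')))
    (h2 : Function.Bijective (Algebra.TensorProduct.productMap
      (IsScalarTower.toAlgHom k' k'' K'') (IsScalarTower.toAlgHom k' K' K'')))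
    (P : Place k K)
    (hspan : ∀ z : kb ⊗[k] K, IsIntegral (Rb kb P) z → z ∈ Submodule.span kb
      {w | IsIntegral (Rb kb P) w ∧
        w ∈ (Algebra.TensorProduct.map (IsScalarTower.toAlgHom k k' kb) (AlgHom.id k K)).range})
    {ι : Type*} [Fintype ι] (ω : Module.Basis ι k' k'') (W : Module.Basis ι K' K'')
    (hW : ∀ i, W i = algebraMap k'' K'' (ω i))
    {z : K''} (hz : IsIntegral (P.O.toSubring.map (algebraMap K K'')) z) (i : ι) :
    IsIntegral (P.O.toSubring.map (algebraMap K K')) (W.repr z i) := by
  classical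
  set R' := P.O.toSubring.map (algebraMap K K') with hR'
  set g := Algebra.TensorProduct.map (IsScalarTower.toAlgHom k k' kb) (AlgHom.id k K)
  set e1 := AlgEquiv.ofBijective _ h1
  have he1 : ∀ (a : k') (x : K), e1 (a ⊗ₜ[k] x) = algebraMap k' K' a * algebraMap K K' x := fun a x => rfl
  have hsymm : ∀ a : k', e1.symm (algebraMap k' K' a) = a ⊗ₜ[k] 1 := fun a =>
    e1.injective (by rw [AlgEquiv.apply_symm_apply, he1, map_one, mul_one])
  let j : K' →ₐ[k'] kb ⊗[k] K :=
    { toRingHom := g.toRingHom.comp e1.symm.toAlgHom.toRingHom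
      commutes' := fun a => by
        show g (e1.symm (algebraMap k' K' a)) = _
        rw [hsymm]
        show algebraMap k' kb a ⊗ₜ[k] (1 : K) = _
        rfl }
  have hjK : ∀ r : K, j (algebraMap K K' r) = (1 : kb) ⊗ₜ[k] r := fun r => by
    show g (e1.symm (algebraMap K K' r)) = _
    rw [show e1.symm (algebraMap K K' r) = (1 : k') ⊗ₜ[k] r from
      e1.injective (by rw [AlgEquiv.apply_symm_apply, he1, map_one, one_mul])]
    simp [g]
  haveI : Nontrivial (kb ⊗[k] K) :=
    (Algebra.TensorProduct.includeRight_injective (R := k) (A := kb) (B := K) (algebraMap k kb).injective).nontrivial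
  have hjinj : Function.Injective j := j.toRingHom.injective
  set e2 := AlgEquiv.ofBijective _ h2
  have he2 : ∀ (c : k'') (x : K'), e2 (c ⊗ₜ[k'] x) = algebraMap k'' K'' c * algebraMap K' K'' x := fun c x => rfl
  let l : k'' →ₐ[k'] kb ⊗[k] K := (IsScalarTower.toAlgHom k' kb (kb ⊗[k] K)).comp σ
  let J : K'' →ₐ[k'] kb ⊗[k] K := (Algebra.TensorProduct.productMap l j).comp e2.symm.toAlgHom
  have hJj : ∀ x, J (algebraMap K' K'' x) = j x := fun x => by
    show Algebra.TensorProduct.productMap l j (e2.symm _) = _
    rw [show e2.symm (algebraMap K' K'' x) = (1 : k'') ⊗ₜ[k'] x from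
      e2.injective (by rw [AlgEquiv.apply_symm_apply, he2, map_one, one_mul])]
    simp
  have hJl : ∀ c, J (algebraMap k'' K'' c) = l c := fun c => by
    show Algebra.TensorProduct.productMap l j (e2.symm _) = _
    rw [show e2.symm (algebraMap k'' K'' c) = c ⊗ₜ[k'] (1 : K') from
      e2.injective (by rw [AlgEquiv.apply_symm_apply, he2, map_one, mul_one])]
    simp
  have hJz : IsIntegral (Rb kb P) (J z) := by
    obtain ⟨p, hp, hp0⟩ := hz
    let f : P.O.toSubring.map (algebraMap K K'') →+* Rb kb P :=
      (J.toRingHom.comp (P.O.toSubring.map (algebraMap K K'')).subtype).codRestrict _ (by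
        rintro ⟨_, r, hr, rfl⟩
        refine ⟨r, hr, ?_⟩
        show (1 : kb) ⊗ₜ[k] r = J (algebraMap K K'' r)
        rw [IsScalarTower.algebraMap_apply K K' K'', hJj, hjK])
    refine ⟨p.map f, hp.map f, ?_⟩
    rw [eval₂_map]
    exact (hom_eval₂ p (algebraMap (P.O.toSubring.map (algebraMap K K'')) K'') J.toRingHom z).symm.trans
      (by rw [hp0, map_zero])
  -- descent of integrality along `j`
  have hdesc : ∀ x : K', IsIntegral (Rb kb P) (j x) → IsIntegral R' x := by
    rintro x ⟨p, hp, hp0⟩
    have hl : p.map (algebraMap (Rb kb P) (kb ⊗[k] K)) ∈ lifts (j.toRingHom.comp (algebraMap R' K')) := by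
      refine (lifts_iff_coeff_lifts _).2 fun n => ?_
      rw [coeff_map]
      obtain ⟨r, hr, e⟩ := Subring.mem_map.1 (p.coeff n).2
      exact ⟨⟨algebraMap K K' r, r, hr, rfl⟩, (hjK r).trans e⟩
    obtain ⟨q, hq, -, hqm⟩ := lifts_and_natDegree_eq_and_monic hl (hp.map _)
    refine ⟨q, hqm, hjinj ?_⟩
    rw [map_zero]
    refine ((hom_eval₂ q (algebraMap R' K') j.toRingHom x).trans ?_)
    rw [← eval_map, hq, eval_map]
    exact hp0
  -- a linear form
  by_contra hni
  let M : Submodule k' K' :=
    { carrier := {x | IsIntegral R' x}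
      add_mem' := fun ha hb => IsIntegral.add ha hb
      zero_mem' := isIntegral_zero
      smul_mem' := fun c x hx => hdesc _ (by
        rw [map_smul, ← algebraMap_smul kb c (j x)]
        refine NonsingPI28.isIntegral_smul P _ ?_
        obtain ⟨p, hp, hp0⟩ := hx
        let f : R' →+* Rb kb P :=
          (j.toRingHom.comp R'.subtype).codRestrict _ (by
            rintro ⟨_, r, hr, rfl⟩
            exact ⟨r, hr, (hjK r).symm⟩)
        refine ⟨p.map f, hp.map f, ?_⟩
        rw [eval₂_map]
        exact (hom_eval₂ p (algebraMap R' K') j.toRingHom x).symm.trans (by rw [hp0, map_zero])) }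
  obtain ⟨ψ, hψ, hψM⟩ := Submodule.exists_dual_map_eq_bot_of_notMem (p := M) hni inferInstance
  have hψ0 : ∀ x ∈ M, ψ x = 0 := fun x hx =>
    (Submodule.mem_bot k').1 (hψM ▸ Submodule.mem_map_of_mem hx)
  let b := Module.Basis.ofVectorSpace k K
  let e1' : k' ⊗[k] K ≃ₗ[k'] K' :=
    { e1.toLinearEquiv with
      map_smul' := fun c y => by
        show e1 (c • y) = c • e1 y
        rw [← algebraMap_smul (k' ⊗[k] K) c y, smul_eq_mul, map_mul, Algebra.smul_def,
          show algebraMap k' (k' ⊗[k] K) c = c ⊗ₜ[k] 1 from rfl, he1, map_one, mul_one] }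
  let B1 := (Algebra.TensorProduct.basis k' b).map e1'
  let Bb := Algebra.TensorProduct.basis kb b
  let Ψ := Bb.constr kb fun l => algebraMap k' kb (ψ (B1 l))
  have hΨj : ∀ x, Ψ (j x) = algebraMap k' kb (ψ x) := by
    have e : (Ψ.restrictScalars k').comp j.toLinearMap = (Algebra.linearMap k' kb).comp ψ := by
      refine B1.ext fun l => ?_
      have hjl : j (B1 l) = Bb l := by
        show g (e1.symm (e1' (Algebra.TensorProduct.basis k' b l))) = _
        rw [show e1.symm (e1' (Algebra.TensorProduct.basis k' b l)) = Algebra.TensorProduct.basis k' b l from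
          e1.symm_apply_apply _]
        simp [g, Bb]
      simp only [LinearMap.comp_apply, AlgHom.toLinearMap_apply, LinearMap.restrictScalars_apply, hjl, Ψ,
        Module.Basis.constr_basis]
      rfl
    exact fun x => LinearMap.congr_fun e x
  have hΨ0 : Ψ (J z) = 0 := by
    refine Submodule.span_le (p := LinearMap.ker Ψ).2 ?_ (hspan _ hJz)
    rintro w ⟨hw, u, rfl⟩
    show Ψ (g u) = 0
    rw [show g u = j (e1 u) by show g u = g (e1.symm (e1 u)); rw [AlgEquiv.symm_apply_apply], hΨj,
      hψ0 _ (hdesc _ (by show IsIntegral _ (g (e1.symm (e1 u))); rw [AlgEquiv.symm_apply_apply]; exact hw)),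
      map_zero]
  have hJsum : J z = ∑ m, σ (ω m) • j (W.repr z m) := by
    conv_lhs => rw [← W.sum_repr z, map_sum]
    refine Finset.sum_congr rfl fun m _ => ?_
    rw [Algebra.smul_def, map_mul, hJj, hW, hJl, Algebra.smul_def, mul_comm]
    rfl
  have h0 : σ (∑ m, ψ (W.repr z m) • ω m) = 0 := by
    rw [← hΨ0, hJsum, map_sum, map_sum]
    refine Finset.sum_congr rfl fun m _ => ?_
    rw [map_smul, map_smul, hΨj, Algebra.smul_def, smul_eq_mul, mul_comm]
  have h00 := (injective_iff_map_eq_zero σ).1 σ.toRingHom.injective _ h0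
  exact hψ (Fintype.linearIndependent_iff.1 ω.linearIndependent _ h00 i)

/-- The main theorem. -/
theorem exists_nonsingular (k : Type u) (K : Type v) [Field k] [Field K] [Algebra k K]
    (hK : IsFunctionField k K) (hg : IsGeometric k K) :
    ∃ (k' : Type u) (_ : Field k') (_ : Algebra k k'), FiniteDimensional k k' ∧ IsPurelyInseparable k k' ∧
      ∀ (K' : Type v) [Field K'] [Algebra K K'] [Algebra k' K'] [Algebra k K']
        [IsScalarTower k k' K'] [IsScalarTower k K K'],
        Function.Bijective (Algebra.TensorProduct.productMap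
          (IsScalarTower.toAlgHom k k' K') (IsScalarTower.toAlgHom k K K')) →
        ∀ (Q : Place k' K') (k'' : Type u) [Field k''] [Algebra k' k''] [FiniteDimensional k' k'']
          (K'' : Type v) [Field K''] [Algebra K' K''] [Algebra k'' K''] [Algebra k' K'']
          [IsScalarTower k' k'' K''] [IsScalarTower k' K' K''],
          Function.Bijective (Algebra.TensorProduct.productMap
            (IsScalarTower.toAlgHom k' k'' K'') (IsScalarTower.toAlgHom k' K' K'')) →
          integralClosure (Q.O.toSubring.map (algebraMap K' K'')) K'' =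
            Algebra.adjoin (Q.O.toSubring.map (algebraMap K' K'')) (Set.range (algebraMap k'' K'')) := by
  obtain ⟨E, hEfin, hEpi, hspan⟩ := exists_uniform (kb := AlgebraicClosure k) hK hg
  refine ⟨E, inferInstance, inferInstance, hEfin, hEpi, ?_⟩
  intro K' _ _ _ _ _ _ h1 Q k'' _ _ _ K'' _ _ _ _ _ _ h2
  letI : Algebra k k'' := ((algebraMap E k'').comp (algebraMap k E)).toAlgebra
  haveI : IsScalarTower k E k'' := IsScalarTower.of_algebraMap_eq' rfl
  letI : Algebra k K'' := ((algebraMap K' K'').comp (algebraMap k K')).toAlgebra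
  letI : Algebra K K'' := ((algebraMap K' K'').comp (algebraMap K K')).toAlgebra
  haveI : IsScalarTower K K' K'' := IsScalarTower.of_algebraMap_eq' rfl
  haveI : IsScalarTower k K K'' := IsScalarTower.of_algebraMap_eq fun c => by
    show algebraMap K' K'' (algebraMap k K' c) = algebraMap K' K'' (algebraMap K K' (algebraMap k K c))
    rw [← IsScalarTower.algebraMap_apply k K K']
  haveI : FiniteDimensional K K' := FunField.finite_of_bijective h1
  let Q₀ : Place k K' := ⟨Q.1, fun c => by
    rw [IsScalarTower.algebraMap_apply k E K']; exact Q.2.1 _, Q.2.2⟩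
  obtain ⟨P, e, -, he⟩ := exists_under (ff hK) Q₀
  obtain ⟨W, hW⟩ := NonsingTower28.exists_basis (K' := K') (Module.finBasis E k'') h2
  exact nonsingular_of_coords (k := k) (k' := E) (ff hK) _ W hW P
    (fun z hz i => coords_integral (IsAlgClosed.lift (R := E) (M := AlgebraicClosure k) (S := k'')) h1 h2 P
      (hspan P) _ W hW hz i) Q₀ ⟨e, he⟩

end Groth.Agent.NonsingPI28
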